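import Cfsg.Agent.Lib.Char.ZassenhausOdd
import Cfsg.Agent.Lib.Coprime.Frobenius
import Mathlib.GroupTheory.PGroup

/-!
# Normal subgroups of Zassenhaus groups; simplicity in odd degree
-/

set_option autoImplicit false
set_option linter.style.haveILetI false
set_option linter.unusedSectionVars false

namespace CfsgLib.Lie.ZassenhausNormal

open Cfsg MulAction Subgroup CfsgLib.Char CfsgLib.Char.ZassenhausOdd

variable {G Ω : Type*} [Group G] [MulAction G Ω]

theorem finite_group [Finite Ω] (hZ : IsZassenhausGroup G Ω) : Finite G :=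
  haveI := hZ.1
  Finite.of_injective (MulAction.toPermHom G Ω) MulAction.toPerm_injective

/-- `x` and its conjugates move corresponding points -/
theorem conj_smul (g x : G) (c : Ω) : (g * x * g⁻¹) • g • c = g • x • c := by
  rw [← mul_smul, inv_mul_cancel_right, mul_smul]

/-- conjugation in a normal subgroup -/
def nconj {N : Subgroup G} (hn : N.Normal) (g : G) (x : N) : N := ⟨g * x * g⁻¹, hn.conj_mem _ x.2 g⟩

/-- a normal subgroup is transitive -/
theorem transitive_normal (hZ : IsZassenhausGroup G Ω) (N : Subgroup G) [hn : N.Normal] (hN : N ≠ ⊥) :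
    IsPretransitive N Ω := by
  haveI := hZ.1
  obtain ⟨x, hx, hx1⟩ := (N.bot_or_exists_ne_one).resolve_left hN
  obtain ⟨c, hc⟩ : ∃ c : Ω, x • c ≠ c := by
    by_contra h
    push Not at h
    exact hx1 (eq_of_smul_eq_smul (α := Ω) fun c => by rw [h c, one_smul])
  refine ⟨fun u v => ?_⟩
  rcases eq_or_ne u v with rfl | huv
  · exact ⟨1, one_smul _ _⟩
  obtain ⟨g, hg1, hg2⟩ := is_two_pretransitive_iff.1 hZ.2.1 (Ne.symm hc) huv
  refine ⟨nconj hn g ⟨x, hx⟩, ?_⟩
  show (g * x * g⁻¹) • u = v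
  rw [← hg1, conj_smul, hg2]

theorem pretransitive_stab_ne (hZ : IsZassenhausGroup G Ω) (N : Subgroup G) [hn : N.Normal] (hN : N ≠ ⊥)
    (c : Ω) : stabilizer N c ≠ ⊥ := by
  haveI := transitive_normal hZ N hN
  obtain ⟨d, hd⟩ := hZ.2.2.2.2 N hn inferInstance
  obtain ⟨k, rfl⟩ := exists_smul_eq N d c
  intro h
  refine hd (eq_bot_iff.2 fun u hu => ?_)
  have hmem : k * u * k⁻¹ ∈ stabilizer N (k • d) := by
    rw [mem_stabilizer_iff, conj_smul, mem_stabilizer_iff.1 hu]
  rw [h, mem_bot] at hmem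
  exact mem_bot.2 (conj_eq_one_iff.1 hmem)

variable [Fintype Ω] [Finite G]

/-- some nontrivial element of a nontrivial normal subgroup fixes two points -/
theorem exists_two_fixed (hZ : IsZassenhausGroup G Ω) (N : Subgroup G) [hn : N.Normal] (hN : N ≠ ⊥) :
    ∃ g : N, g ≠ 1 ∧ ∃ a b : Ω, a ≠ b ∧ g • a = a ∧ g • b = b := by
  classical
  by_contra hno
  push Not at hno
  haveI := transitive_normal hZ N hN
  haveI := hZ.1
  have h3 := zassenhaus_three_le hZ
  obtain ⟨a, -⟩ := hZ.2.2.2.2 N hn inferInstance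
  set M := stabilizer N a with hM
  have hfro : IsFrobeniusComplement M := by
    refine ⟨pretransitive_stab_ne hZ N hN a, fun h => ?_, fun g hg => ?_⟩
    · obtain ⟨b, hb⟩ := Fintype.exists_ne_of_one_lt_card (show 1 < Fintype.card Ω by omega) a
      obtain ⟨k, hk⟩ := exists_smul_eq N a b
      have : k ∈ M := h ▸ mem_top k
      exact hb (hk ▸ mem_stabilizer_iff.1 this)
    · rw [eq_bot_iff]
      rintro x ⟨hx, hx'⟩
      obtain ⟨y, hy, rfl⟩ := hx'
      rw [Subgroup.mem_bot]
      by_contra hne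
      refine hno _ hne a (g • a) (fun h => hg (mem_stabilizer_iff.2 h.symm)) (mem_stabilizer_iff.1 hx) ?_
      show (g * y * g⁻¹) • g • a = g • a
      rw [conj_smul, mem_stabilizer_iff.1 hy]
  obtain ⟨K, hK, -, -⟩ := Coprime.frob_kernel_subgroup hfro
  have hmem : ∀ u : N, u ∈ K → u ≠ 1 → ∀ c : Ω, u • c ≠ c := by
    intro u hu hu1 c hc
    obtain ⟨k, rfl⟩ := exists_smul_eq N a c
    have hu' : u ∈ Cfsg.frobeniusKernel M := hK ▸ hu
    rcases hu' with h | h
    · exact hu1 h
    · refine h k ⟨k⁻¹ * u * k, ?_, ?_⟩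
      · show (k⁻¹ * u * k) • a = a
        rw [mul_smul, mul_smul, hc, inv_smul_smul]
      · show k * (k⁻¹ * u * k) * k⁻¹ = u
        group
  have hcard : Nat.card K = Nat.card Ω := by
    have h1 : Nat.card K = Nat.card (Cfsg.frobeniusKernel M) := by rw [← hK]; rfl
    rw [h1, Coprime.frob_card_kernel hfro, hM, index_stabilizer_of_transitive]
  let K' : Subgroup G := K.map N.subtype
  have hfree : ∀ u ∈ K', u ≠ 1 → ∀ c : Ω, u • c ≠ c := by
    rintro _ ⟨u, hu, rfl⟩ hu1 c hc
    exact hmem u hu (fun e => hu1 (by rw [e]; rfl)) c hc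
  have hK'n : K'.Normal := by
    refine ⟨?_⟩
    rintro _ ⟨u, hu, rfl⟩ g
    refine ⟨nconj hn g u, ?_, rfl⟩
    rcases eq_or_ne u 1 with rfl | hu1
    · rw [show nconj hn g (1 : N) = 1 from Subtype.ext (by simp [nconj])]; exact one_mem K
    show nconj hn g u ∈ (K : Set N)
    rw [hK]
    refine Or.inr fun k hk => ?_
    obtain ⟨y, hy, e⟩ := hk
    have he : (g * u * g⁻¹ : G) • k • a = k • a := by
      have e' : k * y * k⁻¹ = nconj hn g u := e
      show (nconj hn g u) • k • a = k • a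
      rw [← e', conj_smul, mem_stabilizer_iff.1 hy]
    refine hmem u hu hu1 (g⁻¹ • k • a) ?_
    show (u : G) • g⁻¹ • k • a = g⁻¹ • k • a
    rw [eq_inv_smul_iff, ← mul_smul, ← mul_smul]
    exact he
  have hbij : Function.Bijective (fun u : K' => (u : G) • a) := by
    refine (Nat.bijective_iff_injective_and_card _).2 ⟨fun u v e => ?_, ?_⟩
    · by_contra huv
      refine hfree (v⁻¹ * u : K') (v⁻¹ * u : K').2 (fun h => huv ?_) a ?_
      · exact Subtype.ext (inv_mul_eq_one.1 h).symm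
      · show ((v : G)⁻¹ * u) • a = a
        rw [mul_smul, show (u : G) • a = (v : G) • a from e, inv_smul_smul]
    · rw [card_map_of_injective N.subtype_injective, hcard]
  haveI : IsPretransitive K' Ω := (isPretransitive_iff_base a).2 fun c => (hbij.2 c).imp fun u hu => hu
  obtain ⟨c, hc⟩ := hZ.2.2.2.2 K' hK'n inferInstance
  refine hc (eq_bot_iff.2 fun u hu => mem_bot.2 ?_)
  by_contra hne
  exact hfree u u.2 (fun e => hne (Subtype.ext e)) c hu

/-- a nontrivial normal subgroup is doubly transitive -/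
theorem two_transitive_normal (hZ : IsZassenhausGroup G Ω) (N : Subgroup G) [hn : N.Normal] (hN : N ≠ ⊥) :
    IsMultiplyPretransitive N Ω 2 := by
  classical
  haveI := transitive_normal hZ N hN
  obtain ⟨g₀, hg₀, a, b, hab, hga, hgb⟩ := exists_two_fixed hZ N hN
  obtain ⟨H, hHa, hHcard, hHfix⟩ := exists_point_kernel hZ hab
  have hHnorm := (point_kernel_ti hZ a H hHa hHcard hHfix).2
  have hcomm : ∀ u ∈ H, u * g₀ * u⁻¹ * (g₀ : G)⁻¹ ∈ H ⊓ N := by
    intro u hu
    refine Subgroup.mem_inf.2 ⟨?_, mul_mem (hn.conj_mem _ g₀.2 u) (inv_mem g₀.2)⟩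
    have hg : (g₀ : G) ∈ normalizer (H : Set G) := by rw [hHnorm]; exact hga
    rw [mul_assoc, mul_assoc]
    refine mul_mem hu ?_
    rw [← mul_assoc]
    exact (mem_normalizer_iff.1 hg _).1 (inv_mem hu)
  have hHN : H ≤ N := by
    let τ : H → H := fun u => ⟨_, (hcomm u u.2).1⟩
    have hτ : Function.Injective τ := by
      intro u v e
      have e1 : (u : G) * g₀ * (u : G)⁻¹ = v * g₀ * (v : G)⁻¹ :=
        mul_right_cancel (congrArg Subtype.val e : (u : G) * g₀ * (u : G)⁻¹ * (g₀ : G)⁻¹ = _)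
      by_contra huv
      set x : G := (v : G)⁻¹ * u with hx
      have hxH : x ∈ H := mul_mem (inv_mem v.2) u.2
      have hx1 : x ≠ 1 := fun h => huv (Subtype.ext (inv_mul_eq_one.1 h).symm)
      have hxc : x * g₀ = g₀ * x := by
        rw [hx]
        calc (v : G)⁻¹ * u * g₀ = (v : G)⁻¹ * ((u : G) * g₀ * (u : G)⁻¹) * u := by group
          _ = g₀ * ((v : G)⁻¹ * u) := by rw [e1]; group
      have hxb : g₀ • x • b = x • b := by
        show (g₀ : G) • x • b = x • b
        rw [← mul_smul, ← hxc, mul_smul]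
        exact congrArg (x • ·) hgb
      have hxa : x • a = a := mem_stabilizer_iff.1 (hHa hxH)
      have hg1 : (g₀ : G) ≠ 1 := fun h => hg₀ (Subtype.ext h)
      rcases fixed_eq_or hZ hg1 hab (hga : (g₀ : G) • a = a) hgb hxb with h | h
      · exact hab (smul_left_cancel x (hxa.trans h.symm))
      · exact hab (hHfix x hxH hx1 b h).symm
    intro u hu
    obtain ⟨v, hv⟩ := (Finite.injective_iff_surjective.1 hτ) ⟨u, hu⟩
    have := (hcomm v v.2).2
    rwa [show (v : G) * g₀ * (v : G)⁻¹ * (g₀ : G)⁻¹ = u from congrArg Subtype.val hv] at this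
  have hreg : ∀ c : Ω, c ≠ a → ∃ u ∈ H, u • b = c := by
    have hne : ∀ u : H, (u : G) • b ≠ a := fun u e => hab (by
      have h' : (u : G) • a = a := hHa u.2
      exact (smul_left_cancel _ (e.trans h'.symm)).symm)
    have hb : Function.Bijective (fun u : H => (⟨(u : G) • b, hne u⟩ : {x : Ω // x ≠ a})) := by
      refine (Nat.bijective_iff_injective_and_card _).2 ⟨fun u v e => ?_, ?_⟩
      · by_contra huv
        refine hab (hHfix (v⁻¹ * u : H) (v⁻¹ * u : H).2 (fun h => huv ?_) b ?_).symm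
        · exact Subtype.ext (inv_mul_eq_one.1 h).symm
        · show ((v : G)⁻¹ * u) • b = b
          rw [mul_smul, show (u : G) • b = (v : G) • b from congrArg Subtype.val e, inv_smul_smul]
      · rw [Nat.card_eq_fintype_card (α := {x : Ω // x ≠ a}), Fintype.card_subtype_compl, Fintype.card_subtype_eq]
        omega
    intro c hc
    obtain ⟨u, hu⟩ := hb.2 ⟨c, hc⟩
    exact ⟨u, u.2, congrArg Subtype.val hu⟩
  have hto : ∀ c d : Ω, c ≠ d → ∃ g : N, g • a = c ∧ g • b = d := by
    intro c d hcd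
    obtain ⟨k, hk⟩ := exists_smul_eq N a c
    obtain ⟨u, hu, hu'⟩ := hreg (k⁻¹ • d) (fun h => hcd (by rw [← hk, ← h, smul_inv_smul]))
    refine ⟨k * ⟨u, hHN hu⟩, ?_, ?_⟩
    · rw [mul_smul, show (⟨u, hHN hu⟩ : N) • a = a from mem_stabilizer_iff.1 (hHa hu), hk]
    · rw [mul_smul, show (⟨u, hHN hu⟩ : N) • b = k⁻¹ • d from hu', smul_inv_smul]
  rw [is_two_pretransitive_iff]
  intro c d c' d' h h'
  obtain ⟨g, hg1, hg2⟩ := hto c d h
  obtain ⟨g', hg1', hg2'⟩ := hto c' d' h'
  exact ⟨g' * g⁻¹, by rw [mul_smul, ← hg1, inv_smul_smul, hg1'], by rw [mul_smul, ← hg2, inv_smul_smul, hg2']⟩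

/-- two regular normal subgroups of a doubly transitive normal subgroup -/
theorem eq_of_regular_normal {N : Subgroup G} (h2 : IsMultiplyPretransitive N Ω 2) {a : Ω}
    (hΩ : 2 ≤ Fintype.card Ω)
    (M M' : Subgroup N) [M.Normal] [M'.Normal] [IsPretransitive M Ω] [IsPretransitive M' Ω]
    (hM : ∀ c : Ω, stabilizer M c = ⊥) [FaithfulSMul N Ω] : M ≤ M' := by
  classical
  -- nonidentity elements are conjugate
  have hconj : ∀ x ∈ M, x ≠ 1 → ∀ y ∈ M, y ≠ 1 → ∃ k : N, k * x * k⁻¹ = y := by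
    intro x hx hx1 y hy hy1
    have hmove : ∀ u ∈ M, u ≠ 1 → a ≠ u • a := fun u hu hu1 e => hu1 (by
      have hmem : (⟨u, hu⟩ : M) ∈ stabilizer M a := e.symm
      rw [hM, mem_bot] at hmem
      exact congrArg Subtype.val hmem)
    obtain ⟨k, hk1, hk2⟩ := is_two_pretransitive_iff.1 h2 (hmove x hx hx1) (hmove y hy hy1)
    refine ⟨k, ?_⟩
    have hm : (⟨(k * x * k⁻¹)⁻¹ * y, mul_mem (inv_mem (Normal.conj_mem inferInstance x hx k)) hy⟩ : M) ∈
        stabilizer M a := by
      show ((k * x * k⁻¹)⁻¹ * y) • a = a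
      rw [mul_smul, inv_smul_eq_iff]
      nth_rewrite 2 [← hk1]
      rw [conj_smul, hk2]
    rw [hM, mem_bot] at hm
    exact inv_mul_eq_one.1 (congrArg Subtype.val hm)
  by_cases hD : M ⊓ M' = ⊥
  swap
  · obtain ⟨m, hm, hm1⟩ := (Subgroup.bot_or_exists_ne_one _).resolve_left hD
    intro y hy
    rcases eq_or_ne y 1 with rfl | hy1
    · exact one_mem _
    obtain ⟨k, rfl⟩ := hconj m hm.1 hm1 y hy hy1
    exact Normal.conj_mem inferInstance m hm.2 k
  exfalso
  have hcomm : ∀ x ∈ M, ∀ y ∈ M', x * y = y * x := fun x hx y hy =>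
    (Subgroup.commute_of_normal_of_disjoint M M' inferInstance inferInstance
      (disjoint_iff.2 hD) x y hx hy).eq
  -- a p-group
  haveI : Nontrivial M := by
    obtain ⟨b, hb⟩ := Fintype.exists_ne_of_one_lt_card (show 1 < Fintype.card Ω by omega) a
    obtain ⟨m, hm⟩ := exists_smul_eq M a b
    exact ⟨m, 1, fun e => hb (by rw [← hm, e, one_smul])⟩
  haveI : Finite M := inferInstance
  obtain ⟨p, hp, hpd⟩ := Nat.exists_prime_and_dvd (Finite.one_lt_card (α := M)).ne'
  haveI := Fact.mk hp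
  obtain ⟨x₀, hx₀⟩ := exists_prime_orderOf_dvd_card' p hpd
  have hx₀1 : (x₀ : N) ≠ 1 := fun e => by
    rw [(Subtype.ext e : x₀ = 1), orderOf_one] at hx₀
    exact hp.ne_one hx₀.symm
  have hP : IsPGroup p M := fun y => by
    refine ⟨1, ?_⟩
    rcases eq_or_ne y 1 with rfl | hy
    · exact one_pow _
    obtain ⟨k, hk⟩ := hconj x₀ x₀.2 hx₀1 y y.2 (fun e => hy (Subtype.ext e))
    refine Subtype.ext ?_
    rw [pow_one, SubgroupClass.coe_pow, ← hk, conj_pow, ← SubgroupClass.coe_pow,
      show x₀ ^ p = 1 by rw [← hx₀, pow_orderOf_eq_one]]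
    simp
  haveI := hP.center_nontrivial
  obtain ⟨⟨z, hzc⟩, hz1⟩ := exists_ne (1 : center M)
  obtain ⟨⟨m', hm'⟩, hm'a⟩ := exists_smul_eq M' a ((z : N) • a)
  have he : (z : N) = m' := eq_of_smul_eq_smul (α := Ω) fun c => by
    obtain ⟨m, rfl⟩ := exists_smul_eq M a c
    show (z : N) • (m : N) • a = m' • (m : N) • a
    rw [← mul_smul, ← mul_smul, ← hcomm m m.2 m' hm', mul_smul (m : N) m',
      show m' • a = (z : N) • a from hm'a, ← mul_smul, ← Subgroup.coe_mul,
      ← mem_center_iff.1 hzc m, Subgroup.coe_mul]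
  have : (z : N) ∈ M ⊓ M' := ⟨z.2, he ▸ hm'⟩
  rw [hD, mem_bot] at this
  exact hz1 (Subtype.ext (Subtype.ext this))

/-- a nontrivial normal subgroup of a Zassenhaus group is one -/
theorem isZassenhaus_normal (hZ : IsZassenhausGroup G Ω) (N : Subgroup G) [hn : N.Normal] (hN : N ≠ ⊥) :
    IsZassenhausGroup N Ω := by
  classical
  haveI := hZ.1
  haveI hf : FaithfulSMul N Ω := ⟨fun h => Subtype.ext (eq_of_smul_eq_smul (α := Ω) h)⟩
  have h3 := zassenhaus_three_le hZ
  refine ⟨hf, two_transitive_normal hZ N hN,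
    fun g a b c h1 h2 h4 ha hb hc => Subtype.ext (hZ.2.2.1 g a b c h1 h2 h4 ha hb hc),
    exists_two_fixed hZ N hN, fun M hMn hMt => ?_⟩
  by_contra hno
  push Not at hno
  have hΩ : 2 ≤ Fintype.card Ω := by omega
  obtain ⟨a⟩ : Nonempty Ω := Fintype.card_pos_iff.1 (by omega)
  haveI := hMn
  haveI := hMt
  -- every conjugate is the same
  have hinv : ∀ g : G, ∀ x ∈ M, nconj hn g x ∈ M := by
    intro g x hx
    let f : N →* N := MonoidHom.mk' (nconj hn g) fun x y => Subtype.ext (by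
      simp only [nconj, Subgroup.coe_mul]; group)
    have hfsurj : Function.Surjective f := fun y =>
      ⟨nconj hn g⁻¹ y, Subtype.ext (by show g * (g⁻¹ * y * g⁻¹⁻¹) * g⁻¹ = y; group)⟩
    haveI : (M.map f).Normal := hMn.map f hfsurj
    haveI : IsPretransitive (M.map f) Ω := ⟨fun c d => by
      obtain ⟨m, hm⟩ := exists_smul_eq M (g⁻¹ • c) (g⁻¹ • d)
      refine ⟨⟨f m, mem_map_of_mem f m.2⟩, ?_⟩
      show (g * ((m : N) : G) * g⁻¹) • c = d
      rw [mul_smul, mul_smul, show ((m : N) : G) • g⁻¹ • c = g⁻¹ • d from hm, smul_inv_smul]⟩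
    have hle := eq_of_regular_normal (two_transitive_normal hZ N hN) (a := a) hΩ M (M.map f) hno
    have heq := Subgroup.eq_of_le_of_card_ge hle
      (Nat.le_of_eq (card_map_of_injective (fun x y e => Subtype.ext (by
        have e' : g * (x : G) * g⁻¹ = g * y * g⁻¹ := congrArg Subtype.val e
        simpa using e'))))
    exact heq.ge (mem_map_of_mem f hx)
  have hn' : (M.map N.subtype).Normal := by
    refine ⟨?_⟩
    rintro _ ⟨x, hx, rfl⟩ g
    exact ⟨nconj hn g x, hinv g x hx, rfl⟩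
  haveI : IsPretransitive (M.map N.subtype) Ω := ⟨fun c d => by
    obtain ⟨m, hm⟩ := exists_smul_eq M c d
    exact ⟨⟨_, mem_map_of_mem N.subtype m.2⟩, hm⟩⟩
  obtain ⟨c, hc⟩ := hZ.2.2.2.2 _ hn' inferInstance
  refine hc (eq_bot_iff.2 ?_)
  rintro ⟨_, x, hx, rfl⟩ hu
  have hmem : (⟨x, hx⟩ : M) ∈ stabilizer M c := hu
  rw [hno, mem_bot] at hmem
  rw [mem_bot]
  exact Subtype.ext (congrArg N.subtype (congrArg Subtype.val hmem))

/-- an element fixing two points and an involution with one fixed point do not commute -/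
theorem fixed_of_involution_one (hZ : IsZassenhausGroup G Ω) {a b : Ω} (hab : a ≠ b)
    (hodd : Odd (Fintype.card Ω)) : Odd (Nat.card (pairStab G a b)) := by
  classical
  rw [← Nat.not_even_iff_odd, even_iff_two_dvd]
  intro h2
  haveI : Fact (Nat.Prime 2) := ⟨Nat.prime_two⟩
  obtain ⟨⟨x, hx⟩, hxo⟩ := exists_prime_orderOf_dvd_card' 2 h2
  rw [Subgroup.orderOf_mk] at hxo
  have hx1 : x ≠ 1 := fun e => by rw [e, orderOf_one] at hxo; omega
  have hP : IsPGroup 2 (zpowers x) := IsPGroup.of_card (n := 1) (by rw [Nat.card_zpowers, hxo, pow_one])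
  have hmod := hP.card_modEq_card_fixedPoints Ω
  have hfix : fixedPoints (zpowers x) Ω = ({a, b} : Set Ω) := by
    ext c
    rw [mem_fixedPoints]
    constructor
    · intro h
      exact fixed_eq_or hZ hx1 hab hx.1 hx.2 (h ⟨x, mem_zpowers x⟩)
    · intro hc y
      obtain ⟨k, hk⟩ := y.2
      have hxc : x ∈ stabilizer G c := by
        rcases hc with rfl | rfl
        exacts [hx.1, hx.2]
      have := zpow_mem hxc k
      show (y : G) • c = c
      rw [← hk]
      exact this
  rw [Nat.card_eq_fintype_card] at hmod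
  rw [hfix, Nat.card_coe_set_eq, Set.ncard_pair hab] at hmod
  obtain ⟨k, hk⟩ := hodd
  rw [Nat.ModEq, hk] at hmod
  omega

/-- Zassenhaus groups of odd degree are simple -/
theorem simple_of_odd (hZ : IsZassenhausGroup G Ω) (hodd : Odd (Fintype.card Ω)) : IsSimpleGroup G := by
  classical
  haveI := hZ.1
  have h3 := zassenhaus_three_le hZ
  -- minimal normal subgroups are simple
  have hsimple : ∀ N : Subgroup G, N.Normal → N ≠ ⊥ →
      (∀ K : Subgroup G, K.Normal → K ≠ ⊥ → K ≤ N → K = N) → IsSimpleGroup N := by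
    intro N hn hN hmin
    haveI := hn
    have hZN := isZassenhaus_normal hZ N hN
    haveI : Nontrivial N := (Subgroup.nontrivial_iff_ne_bot N).2 hN
    refine IsSimpleGroup.mk fun T₀ hT₀ => ?_
    rw [or_iff_not_imp_left]
    intro hT₀1
    obtain ⟨T, ⟨hTn, hT1, hTle⟩, hTmin⟩ := Set.Finite.exists_minimal
      (s := {T : Subgroup N | T.Normal ∧ T ≠ ⊥ ∧ T ≤ T₀}) (Set.toFinite _) ⟨T₀, hT₀, hT₀1, le_rfl⟩
    haveI := hTn
    obtain ⟨t, ht1, c, -, -, htc, -⟩ := exists_two_fixed hZN T hT1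
    have hinv : ∀ g : G, ∀ x ∈ T, nconj hn g x ∈ T := by
      intro g x hx
      let f : N →* N := MonoidHom.mk' (nconj hn g) fun x y => Subtype.ext (by
        simp only [nconj, Subgroup.coe_mul]; group)
      have hfinj : Function.Injective f := fun x y e => Subtype.ext (by
        have e' : g * (x : G) * g⁻¹ = g * y * g⁻¹ := congrArg Subtype.val e
        simpa using e')
      have hTf : (T.map f).Normal := hTn.map f (Finite.injective_iff_surjective.1 hfinj)
      haveI := hTf
      by_cases hD : T ⊓ T.map f = ⊥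
      · exfalso
        have hne : T.map f ≠ ⊥ := fun h => hT1 ((map_eq_bot_iff_of_injective T hfinj).1 h)
        haveI := transitive_normal hZN (T.map f) hne
        apply ht1
        haveI := hZN.1
        refine Subtype.ext (eq_of_smul_eq_smul (M := N) (α := Ω) fun d => ?_)
        obtain ⟨m, rfl⟩ := exists_smul_eq (T.map f) c d
        rw [Subgroup.coe_one, one_smul]
        show (t : N) • (m : N) • c = (m : N) • c
        rw [← mul_smul, (Subgroup.commute_of_normal_of_disjoint T (T.map f) hTn hTf (disjoint_iff.2 hD)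
          (t : N) m t.2 m.2).eq, mul_smul]
        exact congrArg ((m : N) • ·) htc
      · have hsub : T ≤ T.map f :=
          (hTmin (y := T ⊓ T.map f) ⟨inferInstance, hD, inf_le_left.trans hTle⟩ inf_le_left).trans inf_le_right
        have heq := Subgroup.eq_of_le_of_card_ge hsub (Nat.le_of_eq (card_map_of_injective hfinj))
        exact heq.ge (mem_map_of_mem f hx)
    have hn' : (T.map N.subtype).Normal := by
      refine ⟨?_⟩
      rintro _ ⟨x, hx, rfl⟩ g
      exact ⟨nconj hn g x, hinv g x hx, rfl⟩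
    have hT' := hmin _ hn' (fun h => hT1 ((map_eq_bot_iff_of_injective T N.subtype_injective).1 h))
      (map_subtype_le T)
    refine eq_top_iff.2 (le_trans ?_ hTle)
    intro x _
    have : (x : G) ∈ T.map N.subtype := by rw [hT']; exact x.2
    obtain ⟨y, hy, e⟩ := this
    exact (Subtype.ext e : y = x) ▸ hy
  haveI : Nontrivial G := by
    obtain ⟨g, hg, -⟩ := hZ.2.2.2.1
    exact ⟨g, 1, hg⟩
  refine IsSimpleGroup.mk fun K hK => ?_
  rw [or_iff_not_imp_left]
  intro hK1
  obtain ⟨N, ⟨hn, hN, hNle⟩, hNmin⟩ := Set.Finite.exists_minimal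
    (s := {N : Subgroup G | N.Normal ∧ N ≠ ⊥ ∧ N ≤ K}) (Set.toFinite _) ⟨K, hK, hK1, le_rfl⟩
  haveI := hn
  haveI := hsimple N hn hN fun M hM hM1 hMle =>
    le_antisymm hMle (hNmin (y := M) ⟨hM, hM1, hMle.trans hNle⟩ hMle)
  have hZN := isZassenhaus_normal hZ N hN
  obtain ⟨a, b, hab⟩ := Fintype.exists_pair_of_one_lt_card (show 1 < Fintype.card Ω by omega)
  obtain ⟨w, hwa, hwb⟩ := is_two_pretransitive_iff.1 hZN.2.1 hab hab.symm
  obtain ⟨hinvert, hw2⟩ := swap_inverts hZN hab (fixed_of_involution_one hZN hab hodd) hwa hwb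
  -- the involution has a fixed point
  obtain ⟨p, hp⟩ : ∃ p : Ω, w • p = p := by
    haveI : Fact (Nat.Prime 2) := ⟨Nat.prime_two⟩
    have hP : IsPGroup 2 (zpowers w) := IsPGroup.of_card (n := 1) (by rw [Nat.card_zpowers, hw2, pow_one])
    obtain ⟨p, hp⟩ := hP.nonempty_fixed_point_of_prime_not_dvd_card Ω (by
      rw [Nat.card_eq_fintype_card]
      exact hodd.not_two_dvd_nat)
    exact ⟨p, mem_fixedPoints.1 hp ⟨w, mem_zpowers w⟩⟩
  have hpa : p ≠ a := fun e => hab (by rw [e, hwa] at hp; exact hp.symm)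
  have hpb : p ≠ b := fun e => hab (by rw [e, hwb] at hp; exact hp)
  have hE : pairStab G a b ≤ N := by
    intro e he
    set c : G := (w : G)⁻¹ * e * w * e⁻¹ with hc
    have hcN : c ∈ N := by
      rw [hc, mul_assoc, mul_assoc, ← mul_assoc e]
      exact mul_mem (inv_mem w.2) (hn.conj_mem _ w.2 e)
    have hce : c ∈ pairStab G a b :=
      mul_mem (Subgroup.mem_inf.2 ⟨mem_stabilizer_iff.2 (by
        rw [mul_smul, mul_smul, show (w : G) • a = b from hwa, he.2, inv_smul_eq_iff]; exact hwa.symm),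
        mem_stabilizer_iff.2 (by
        rw [mul_smul, mul_smul, show (w : G) • b = a from hwb, he.1, inv_smul_eq_iff]; exact hwb.symm)⟩) (inv_mem he)
    obtain ⟨k, hk⟩ := fixed_of_involution_one hZN hab hodd
    let c' : pairStab N a b := ⟨⟨c, hcN⟩, hce.1, hce.2⟩
    obtain ⟨r, hr⟩ : ∃ r : pairStab N a b, r * r = c' := by
      refine ⟨c' ^ (k + 1), ?_⟩
      rw [← pow_add, show k + 1 + (k + 1) = Nat.card (pairStab N a b) + 1 by omega, pow_succ,
        pow_card_eq_one', one_mul]
    have hrw : (w : G)⁻¹ * ((r : N) : G) * w = ((r : N) : G)⁻¹ := congrArg Subtype.val (hinvert r r.2)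
    have hrc : ((r : N) : G) * ((r : N) : G) = c := congrArg (fun x : pairStab N a b => ((x : N) : G)) hr
    set f : G := ((r : N) : G) * e with hf
    have hfw : (w : G)⁻¹ * f * w = f := by
      calc (w : G)⁻¹ * f * w = ((w : G)⁻¹ * ((r : N) : G) * w) * (((w : G)⁻¹ * e * w * e⁻¹) * e) := by
            rw [hf]; group
        _ = f := by rw [hrw, ← hc, ← hrc, hf]; group
    have hfab : f • a = a ∧ f • b = b := by
      constructor <;> rw [hf, mul_smul]
      · rw [he.1]; exact r.2.1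
      · rw [he.2]; exact r.2.2
    have hwne : (w : G) ≠ 1 := fun h => by
      rw [show w = 1 from Subtype.ext h, orderOf_one] at hw2
      omega
    -- the fixed point of the involution is unique
    have huniq : ∀ q : Ω, (w : G) • q = q → q = p := by
      intro q hq
      by_contra hqp
      have hwo : orderOf (w : G) = 2 := by rw [Subgroup.orderOf_coe, hw2]
      exact hqp (orderOf_ne_two_of_two_fixed hZ hab (fixed_of_involution_one hZ hab hodd) hwo hq hp)
    have hfp : f • p = p := huniq _ (by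
      have hcom : (w : G) * f = f * w := by
        calc (w : G) * f = (w : G) * ((w : G)⁻¹ * f * w) := by rw [hfw]
          _ = f * w := by group
      rw [← mul_smul, hcom, mul_smul]
      exact congrArg (f • ·) hp)
    have hf1 : f = 1 := hZ.2.2.1 f a b p hab (Ne.symm hpb) (Ne.symm hpa) hfab.1 hfab.2 hfp
    have : e = ((r : N) : G)⁻¹ := eq_inv_of_mul_eq_one_right hf1
    rw [this]
    exact inv_mem (r : N).2
  refine eq_top_iff.2 (le_trans ?_ hNle)
  intro g _
  obtain ⟨k, hk1, hk2⟩ := is_two_pretransitive_iff.1 hZN.2.1 hab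
    (show g • a ≠ g • b from fun h => hab (smul_left_cancel g h))
  have : (k : G)⁻¹ * g ∈ N := hE ⟨mem_stabilizer_iff.2 (by rw [mul_smul, ← hk1]; exact inv_smul_smul _ _),
    mem_stabilizer_iff.2 (by rw [mul_smul, ← hk2]; exact inv_smul_smul _ _)⟩
  simpa using mul_mem k.2 this

end CfsgLib.Lie.ZassenhausNormal
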