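import Cfsg.Agent.Lib.Lie.Zassenhaus.Normal
import Cfsg.Agent.Lib.Perm.AbelianKernel.Recognise
import Cfsg.Agent.Lib.Perm.AbelianKernel.Three

/-!
# The braid relation in Zassenhaus groups with abelian point kernel of even order
-/

set_option autoImplicit false
set_option linter.style.haveILetI false
set_option linter.unusedSectionVars false

namespace CfsgLib.Lie.ZassenhausBraid

open MulAction Subgroup

variable {G Ω : Type*} [Group G] [Finite G] [MulAction G Ω] [Finite Ω]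

/-- a unique element of the kernel satisfies the braid relation with the interchanging involution -/
theorem exists_unique_braid (hZ : Cfsg.IsZassenhausGroup G Ω) {a : Ω}
    (U : Subgroup G) (hUle : U ≤ stabilizer G a)
    (hUn : ∀ h ∈ stabilizer G a, ∀ u ∈ U, h * u * h⁻¹ ∈ U)
    (hreg : ∀ c d : Ω, c ≠ a → d ≠ a → ∃! u : U, (u : G) • c = d)
    (hU2 : IsPGroup 2 U) (hUab : ∀ u ∈ U, ∀ u' ∈ U, u * u' = u' * u)
    (v : G) (hv2 : v * v = 1) (hva : v • a ≠ a) :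
    ∃! u₀ : G, u₀ ∈ U ∧ u₀ ≠ 1 ∧ v * u₀ * v = u₀ * v * u₀ := by
  classical
  haveI := Fintype.ofFinite Ω
  haveI := hZ.1
  have hvi : v⁻¹ = v := inv_eq_of_mul_eq_one_right hv2
  have h3 := CfsgLib.Char.zassenhaus_three_le hZ
  set b := v • a with hb
  have hab : a ≠ b := Ne.symm hva
  have hvb : v • b = a := by rw [hb, ← mul_smul, hv2, one_smul]
  let D : CfsgLib.Perm.AbKernel.Data G a b :=
    { F := U, w := v, ne := hab, le := hUle, normal := hUn, comm := hUab, reg := hreg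
      fix := fun g ha hb' c hca hcb hc => hZ.2.2.1 g a b c hab (Ne.symm hcb) (Ne.symm hca) ha hb' hc
      wa := rfl, wb := hvb }
  have hspace : Nat.card U + 1 = Fintype.card Ω := D.card_space
  obtain ⟨k, hk⟩ := IsPGroup.iff_card.1 hU2
  have hk0 : k ≠ 0 := by rintro rfl; rw [pow_zero] at hk; omega
  have hU1 : 1 < Nat.card D.F := by show 1 < Nat.card U; omega
  have hnodd : Odd (Fintype.card Ω) := by
    obtain ⟨j, rfl⟩ := Nat.exists_eq_succ_of_ne_zero hk0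
    rw [← hspace, hk, pow_succ]
    exact ⟨2 ^ j, by ring⟩
  have hodd := CfsgLib.Lie.ZassenhausNormal.fixed_of_involution_one hZ hab hnodd
  rcases D.dichotomy hU1 hodd with ⟨N, hN, -, hNreg⟩ | ⟨hsw, hle⟩
  · exfalso
    obtain ⟨c, hc⟩ := hZ.2.2.2.2 N hN ⟨fun y z => (hNreg y z).exists⟩
    exact hc (eq_bot_iff.2 fun n hn => Subgroup.mem_bot.2
      ((hNreg c c).unique hn (by simp : ((1 : N) : G) • c = c)))
  obtain ⟨hinv, -⟩ := hsw v rfl hvb
  set E := stabilizer G a ⊓ stabilizer G b with hE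
  have hfull : Nat.card E + 1 = Nat.card U := by
    rcases D.full_or_half hU1 hle with h | h
    · exact h
    · exfalso
      have h' : Nat.card U = 2 * Nat.card E + 1 := h
      obtain ⟨j, rfl⟩ := Nat.exists_eq_succ_of_ne_zero hk0
      rw [hk, pow_succ] at h'
      omega
  have hEc : ∀ x ∈ E, ∀ y ∈ E, x * y = y * x := by
    intro x hx y hy
    have h := hinv _ (mul_mem hx hy)
    rw [show v⁻¹ * (x * y) * v = (v⁻¹ * x * v) * (v⁻¹ * y * v) by group, hinv x hx, hinv y hy,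
      ← mul_inv_rev, inv_inj] at h
    exact h.symm
  have hmove : ∀ e ∈ E, v * e = e⁻¹ * v := by
    intro e he
    have h := hinv e he
    calc v * e = (v⁻¹ * e * v) * v⁻¹ := by rw [hvi, mul_assoc, hv2, mul_one]
      _ = e⁻¹ * v := by rw [h, hvi]
  have hEU : ∀ g, g ∈ E → g ∈ U → g = 1 := fun g hg hgU => D.eq_one_of_mem hgU hg.2
  -- transitivity of the two-point stabiliser on the kernel
  have htrans : ∀ u₁ ∈ U, u₁ ≠ 1 → ∀ u₂ ∈ U, u₂ ≠ 1 → ∃ e ∈ E, e * u₁ * e⁻¹ = u₂ := by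
    intro u₁ hu₁ hu₁1 u₂ hu₂ hu₂1
    let τ : E → {u : U // u ≠ 1} := fun e => ⟨⟨e * u₁ * (e : G)⁻¹, hUn e e.2.1 u₁ hu₁⟩,
      fun h => hu₁1 (conj_eq_one_iff.1 (congrArg Subtype.val h))⟩
    have hτ : Function.Injective τ := by
      intro e e' h
      have h' : (e : G) * u₁ * (e : G)⁻¹ = e' * u₁ * (e' : G)⁻¹ := congrArg (fun z : {u : U // u ≠ 1} => ((z.1 : U) : G)) h
      by_contra hne
      refine hu₁1 (D.isFpfOn.eq_one (a := (e' : G)⁻¹ * e) (mul_mem (inv_mem e'.2) e.2) ?_ hu₁ ?_)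
      · exact fun h1 => hne (Subtype.ext (inv_mul_eq_one.1 h1).symm)
      · calc (e' : G)⁻¹ * e * u₁ * ((e' : G)⁻¹ * e)⁻¹ = (e' : G)⁻¹ * ((e : G) * u₁ * (e : G)⁻¹) * e' := by group
          _ = u₁ := by rw [h']; group
    have hcard : Nat.card E = Nat.card {u : U // u ≠ 1} := by
      haveI := Fintype.ofFinite U
      rw [Nat.card_eq_fintype_card (α := {u : U // u ≠ 1}), Fintype.card_subtype_compl, Fintype.card_subtype_eq,
        ← Nat.card_eq_fintype_card]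
      omega
    obtain ⟨e, he⟩ := ((Nat.bijective_iff_injective_and_card _).2 ⟨hτ, hcard⟩).2 ⟨⟨u₂, hu₂⟩, fun h => hu₂1 (congrArg Subtype.val h)⟩
    exact ⟨e, e.2, congrArg (fun z : {u : U // u ≠ 1} => ((z.1 : U) : G)) he⟩
  have hinvol : ∀ u ∈ U, u * u = 1 := by
    intro u hu
    rcases eq_or_ne u 1 with rfl | hu1
    · exact one_mul 1
    haveI : Fact (Nat.Prime 2) := ⟨Nat.prime_two⟩
    obtain ⟨⟨i, hi⟩, hio⟩ := exists_prime_orderOf_dvd_card' (G := U) 2 (hk ▸ dvd_pow_self 2 hk0)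
    rw [Subgroup.orderOf_mk] at hio
    have hii : i * i = 1 := by rw [← pow_two, ← hio, pow_orderOf_eq_one]
    obtain ⟨e, -, rfl⟩ := htrans i hi (fun h => by rw [h, orderOf_one] at hio; omega) u hu hu1
    rw [show e * i * e⁻¹ * (e * i * e⁻¹) = e * (i * i) * e⁻¹ by group, hii]
    group
  have hUi : ∀ u ∈ U, u⁻¹ = u := fun u hu => inv_eq_of_mul_eq_one_right (hinvol u hu)
  -- uniqueness of the decomposition
  have huniq : ∀ f ∈ U, ∀ f' ∈ U, ∀ s ∈ stabilizer G a, ∀ s' ∈ stabilizer G a,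
      f * v * s = f' * v * s' → f = f' ∧ s = s' := by
    intro f hf f' hf' s hs s' hs' h
    have h' := D.outEquiv.injective (a₁ := (⟨f, hf⟩, ⟨s, hs⟩)) (a₂ := (⟨f', hf'⟩, ⟨s', hs'⟩)) (Subtype.ext h)
    exact ⟨congrArg (fun p : U × stabilizer G a => (p.1 : G)) h',
      congrArg (fun p : U × stabilizer G a => (p.2 : G)) h'⟩
  -- the shape of the conjugates
  have hform : ∀ u ∈ U, u ≠ 1 → ∃ f ∈ U, ∃ h ∈ E, v * u * v = f * v * (h * f) := by
    intro u hu hu1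
    have hne : (v * u * v) • a ≠ a := by
      intro h
      refine hu1 (D.eq_one_of_mem hu ?_)
      rw [mul_smul, mul_smul, ← hb] at h
      exact smul_left_cancel v (h.trans hvb.symm)
    obtain ⟨⟨f, s⟩, hfs⟩ := D.outEquiv.surjective ⟨v * u * v, hne⟩
    have hfs' : (f : G) * v * s = v * u * v := congrArg Subtype.val hfs
    set g : U := D.mv s with hg
    obtain ⟨h, hh⟩ : ∃ h : G, h = (g : G)⁻¹ * s := ⟨_, rfl⟩
    have hhE : h ∈ E := hh ▸ (D.proj s).2
    have hsgh : (s : G) = g * h := by rw [hh, mul_inv_cancel_left]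
    have hghmem : h⁻¹ * (g : G)⁻¹ * h ∈ U := by
      have := hUn h⁻¹ (inv_mem hhE.1) _ (inv_mem g.2)
      rwa [inv_inv] at this
    -- the inverse gives a second decomposition
    have hflip : (f : G) * v * s = h⁻¹ * (g : G)⁻¹ * h * v * (h * (f : G)⁻¹) := by
      have hi : ((f : G) * v * s)⁻¹ = (f : G) * v * s := by
        rw [hfs', mul_inv_rev, mul_inv_rev, hvi, hUi u hu, ← mul_assoc]
      conv_lhs => rw [← hi]
      rw [hsgh, mul_inv_rev, mul_inv_rev, mul_inv_rev, hvi,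
        show h⁻¹ * (g : G)⁻¹ * h * v * (h * (f : G)⁻¹) = h⁻¹ * (g : G)⁻¹ * (h * (v * h)) * (f : G)⁻¹ by group,
        hmove h hhE]
      group
    obtain ⟨-, e2⟩ := huniq f f.2 _ hghmem s s.2 _
      (mul_mem hhE.1 (inv_mem (hUle f.2))) hflip
    exact ⟨f, f.2, h, hhE, by rw [← hfs', e2, hUi _ f.2]⟩
  have hform_uniq : ∀ f ∈ U, ∀ f' ∈ U, ∀ h ∈ E, ∀ h' ∈ E,
      f * v * (h * f) = f' * v * (h' * f') → f = f' ∧ h = h' := by
    intro f hf f' hf' h hh h' hh' e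
    obtain ⟨e1, e2⟩ := huniq f hf f' hf' _ (mul_mem hh.1 (hUle hf)) _ (mul_mem hh'.1 (hUle hf')) e
    subst e1
    exact ⟨rfl, mul_right_cancel e2⟩
  have hconj : ∀ u f h e : G, e ∈ E → v * u * v = f * v * (h * f) →
      v * (e * u * e⁻¹) * v = (e⁻¹ * f * e) * v * ((e * h * e) * (e⁻¹ * f * e)) := by
    intro u f h e he eq
    have h1 := hmove e he
    have h2 := hmove e⁻¹ (inv_mem he)
    rw [inv_inv] at h2
    calc v * (e * u * e⁻¹) * v = (v * e) * u * (e⁻¹ * v) := by group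
      _ = (e⁻¹ * v) * u * (v * e) := by rw [← h1]
      _ = e⁻¹ * (v * u * v) * e := by group
      _ = e⁻¹ * f * (v * (h * f)) * e := by rw [eq]; group
      _ = e⁻¹ * f * e * ((e⁻¹ * v) * (h * f * e)) := by group
      _ = e⁻¹ * f * e * ((v * e) * (h * f * e)) := by rw [h1]
      _ = _ := by group
  haveI : Nontrivial U := Finite.one_lt_card_iff_nontrivial.1 hU1
  obtain ⟨⟨u₁, hu₁⟩, hu₁1⟩ := exists_ne (1 : U)
  have hu₁1' : u₁ ≠ 1 := fun h => hu₁1 (Subtype.ext h)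
  obtain ⟨f₁, hf₁, h₁, hh₁, eq₁⟩ := hform u₁ hu₁ hu₁1'
  -- solve for the torus part
  obtain ⟨j, hj⟩ := hodd
  set e : G := (h₁ ^ j) with he
  have heE : e ∈ E := pow_mem hh₁ j
  have hone : e * h₁ * e = 1 := by
    rw [he, ← pow_succ, ← pow_add, show j + 1 + j = Nat.card E by
      show j + 1 + j = Nat.card (CfsgLib.Char.ZassenhausOdd.pairStab G a b); omega]
    exact congrArg Subtype.val (pow_card_eq_one' (x := (⟨h₁, hh₁⟩ : E)))
  have eq₀ := hconj u₁ f₁ h₁ e heE eq₁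
  rw [hone, one_mul] at eq₀
  set u₀ := e * u₁ * e⁻¹ with hu₀
  set f₀ := e⁻¹ * f₁ * e with hf₀
  have hu₀U : u₀ ∈ U := hUn e heE.1 u₁ hu₁
  have hu₀1 : u₀ ≠ 1 := fun h => hu₁1' (conj_eq_one_iff.1 h)
  have hf₀U : f₀ ∈ U := by
    have := hUn e⁻¹ (inv_mem heE.1) f₁ hf₁
    rwa [inv_inv] at this
  have hf₀1 : f₀ ≠ 1 := by
    intro h
    rw [h, one_mul, mul_one] at eq₀
    have : u₀ = v := by
      calc u₀ = v * (v * u₀ * v) * v := by
            rw [show v * (v * u₀ * v) * v = (v * v) * u₀ * (v * v) by group, hv2, one_mul, mul_one]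
        _ = v := by rw [eq₀, hv2, one_mul]
    have hm : v ∈ stabilizer G a := this ▸ hUle hu₀U
    exact hva hm
  have hfu : f₀ = u₀ := by
    obtain ⟨f', hf', h', hh', eq'⟩ := hform f₀ hf₀U hf₀1
    have hother : v * f₀ * v = u₀ * v * f₀ := by
      calc v * f₀ * v = v * f₀ * v * (f₀ * f₀) := by rw [hinvol f₀ hf₀U, mul_one]
        _ = v * (f₀ * v * f₀) * f₀ := by group
        _ = (v * v) * (u₀ * v * f₀) := by rw [← eq₀]; group
        _ = u₀ * v * f₀ := by rw [hv2, one_mul]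
    obtain ⟨e1, e2⟩ := huniq u₀ hu₀U f' hf' f₀ (hUle hf₀U) _ (mul_mem hh'.1 (hUle hf')) (hother.symm.trans eq')
    have hh1 : h' = 1 := hEU h' hh' (by
      have : h' = f₀ * f'⁻¹ := by rw [e2]; group
      rw [this]; exact mul_mem hf₀U (inv_mem hf'))
    rw [e1, e2, hh1, one_mul]
  rw [hfu] at eq₀
  refine ⟨u₀, ⟨hu₀U, hu₀1, eq₀⟩, ?_⟩
  rintro u ⟨hu, hu1, heq⟩
  obtain ⟨e', he', rfl⟩ := htrans u₀ hu₀U hu₀1 u hu hu1
  have e3 := hconj u₀ u₀ 1 e' he' (by rw [one_mul]; exact eq₀)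
  have hu' : e' * u₀ * e'⁻¹ ∈ U := hu
  have hf' : e'⁻¹ * u₀ * e' ∈ U := by
    have := hUn e'⁻¹ (inv_mem he'.1) u₀ hu₀U
    rwa [inv_inv] at this
  rw [mul_one] at e3
  rw [heq] at e3
  obtain ⟨-, hh⟩ := hform_uniq _ hu' _ hf' 1 (one_mem _) _ (mul_mem he' he')
    (by rw [one_mul]; exact e3)
  have he1 : e' = 1 := by
    have hd : orderOf e' ∣ 2 := orderOf_dvd_of_pow_eq_one (by rw [pow_two]; exact hh.symm)
    have hd2 : orderOf e' ∣ Nat.card E := Subgroup.orderOf_dvd_natCard _ he'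
    have hd3 : Odd (orderOf e') := Odd.of_dvd_nat ⟨j, hj⟩ hd2
    rcases (Nat.dvd_prime Nat.prime_two).1 hd with h | h
    · exact orderOf_eq_one_iff.1 h
    · rw [h] at hd3; exact absurd hd3 (by decide)
  rw [he1, one_mul, inv_one, mul_one]

end CfsgLib.Lie.ZassenhausBraid
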