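import Cfsg.Agent.Lib.Coprime.Frobenius
import Cfsg.Agent.Lib.Coprime.FpfAction
import Cfsg.Agent.Lib.PGroup.FixedPointFree
import Mathlib.GroupTheory.SpecificGroups.ZGroup
import Mathlib.FieldTheory.Fixed
import Mathlib.RingTheory.IntegralDomain
import Mathlib.Algebra.Module.ZMod
import Mathlib.FieldTheory.Finiteness
import Mathlib.LinearAlgebra.FreeModule.Finite.Basic

/-!
# The degree of a doubly transitive group with regular normal subgroup and three-point stabilisers trivial
-/

set_option autoImplicit false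
set_option linter.style.haveILetI false
set_option linter.unusedSectionVars false

namespace CfsgLib.Lie.RegularDegree

open MulAction Subgroup

section Linear

variable {V : Type*} [AddCommGroup V] [Finite V]

theorem emul (a b : AddMonoid.End V) (v : V) : (a * b) v = a (b v) := rfl

theorem eone (v : V) : (1 : AddMonoid.End V) v = v := rfl

/-- a commutative transitive set of operators normalised by an operator of prime order with two fixed
vectors -/
theorem exists_prime_pow {S : Set (AddMonoid.End V)}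
    (hcomm : ∀ a ∈ S, ∀ b ∈ S, a * b = b * a) (hSinj : ∀ a ∈ S, Function.Injective a) (v₀ : V) (hv₀ : v₀ ≠ 0)
    (horb : ∀ w : V, w ≠ 0 → ∃ a ∈ S, a v₀ = w)
    {X : (AddMonoid.End V)ˣ} (hS : ∀ a ∈ S, (X : AddMonoid.End V) * a * (↑X⁻¹ : AddMonoid.End V) ∈ S)
    {r : ℕ} (hr : r.Prime) (hXr : X ^ r = 1) (hX : X ≠ 1) (hfix : (X : AddMonoid.End V) v₀ = v₀)
    (hcard : Nat.card {w : V // (X : AddMonoid.End V) w = w} = 2) : Nat.card V = 2 ^ r := by
  classical
  haveI : Finite (AddMonoid.End V) :=
    Finite.of_injective (fun f : AddMonoid.End V => (f : V → V)) DFunLike.coe_injective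
  let R : Subring (AddMonoid.End V) := Subring.closure S
  letI : CommRing R := Subring.closureCommRingOfComm hcomm
  have hcR : ∀ a b : R, (a : AddMonoid.End V) * b = b * a := fun a b => congrArg Subtype.val (mul_comm a b)
  have hmem : ∀ a ∈ S, a ∈ R := fun a ha => Subring.subset_closure ha
  -- evaluation at the vector
  have hinj : ∀ a : R, (a : AddMonoid.End V) v₀ = 0 → a = 0 := fun a ha => by
    refine Subtype.ext (AddMonoidHom.ext fun w => ?_)
    rcases eq_or_ne w 0 with rfl | hw
    · exact map_zero (a : AddMonoid.End V)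
    obtain ⟨b, hb, rfl⟩ := horb w hw
    show (a : AddMonoid.End V) (b v₀) = 0
    rw [← emul, hcR a ⟨b, hmem b hb⟩]
    show b ((a : AddMonoid.End V) v₀) = 0
    rw [ha, map_zero]
  have hev : Function.Bijective (fun a : R => (a : AddMonoid.End V) v₀) := by
    refine ⟨fun a b e => ?_, fun w => ?_⟩
    · refine sub_eq_zero.1 (hinj (a - b) ?_)
      show (a : AddMonoid.End V) v₀ - (b : AddMonoid.End V) v₀ = 0
      exact sub_eq_zero.2 e
    · rcases eq_or_ne w 0 with rfl | hw
      · exact ⟨0, rfl⟩
      obtain ⟨b, hb, rfl⟩ := horb w hw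
      exact ⟨⟨b, hmem b hb⟩, rfl⟩
  haveI : Nontrivial R := ⟨⟨0, 1, fun e => hv₀ (by
    have := congrArg (fun a : R => (a : AddMonoid.End V) v₀) e
    exact this.symm)⟩⟩
  haveI : NoZeroDivisors R := ⟨fun {a b} hab => by
    rw [or_iff_not_imp_right]
    intro hb
    refine hinj a ?_
    have hbv : (b : AddMonoid.End V) v₀ ≠ 0 := fun h => hb (hinj b h)
    obtain ⟨c, hc, e⟩ := horb _ hbv
    refine hSinj c hc ?_
    rw [map_zero, ← emul, hcR ⟨c, hmem c hc⟩ a]
    show (a : AddMonoid.End V) (c v₀) = 0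
    rw [e]
    exact congrArg (fun u : R => (u : AddMonoid.End V) v₀) hab⟩
  haveI : IsDomain R := NoZeroDivisors.to_isDomain _
  letI : Fintype R := Fintype.ofFinite R
  letI : Field R := Fintype.fieldOfDomain R
  -- the semilinear automorphism
  set x : AddMonoid.End V := (X : AddMonoid.End V) with hx
  set y : AddMonoid.End V := (↑X⁻¹ : AddMonoid.End V) with hy
  have hyx : y * x = 1 := X.inv_mul
  have hxy : x * y = 1 := X.mul_inv
  have hpres : ∀ a ∈ R, x * a * y ∈ R := by
    intro a ha
    induction ha using Subring.closure_induction with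
    | mem b hb => exact hmem _ (hS b hb)
    | zero => rw [mul_zero, zero_mul]; exact zero_mem _
    | one => rw [mul_one, hxy]; exact one_mem _
    | add b c _ _ hb hc => rw [mul_add, add_mul]; exact add_mem hb hc
    | neg b _ hb => rw [mul_neg, neg_mul]; exact neg_mem hb
    | mul b c _ _ hb hc =>
      rw [show x * (b * c) * y = x * b * (y * x) * c * y by rw [hyx, mul_one]; simp only [mul_assoc]]
      have := mul_mem hb hc
      simp only [mul_assoc] at this ⊢
      exact this
  let f : R →+* R :=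
    { toFun := fun a => ⟨x * (a : AddMonoid.End V) * y, hpres _ a.2⟩
      map_one' := Subtype.ext (by show x * 1 * y = 1; rw [mul_one, hxy])
      map_zero' := Subtype.ext (by show x * 0 * y = 0; rw [mul_zero, zero_mul])
      map_add' := fun a b => Subtype.ext (by
        show x * ((a : AddMonoid.End V) + b) * y = x * a * y + x * b * y
        rw [mul_add, add_mul])
      map_mul' := fun a b => Subtype.ext (by
        show x * ((a : AddMonoid.End V) * b) * y = x * a * y * (x * b * y)
        rw [show x * (a : AddMonoid.End V) * y * (x * b * y) = x * a * (y * x) * b * y by simp only [mul_assoc],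
          hyx, mul_one]
        simp only [mul_assoc]) }
  let σ : R ≃+* R := RingEquiv.ofBijective f (Finite.injective_iff_bijective.1 f.injective)
  have hyv : y v₀ = v₀ := by
    have h := congrArg (fun g : AddMonoid.End V => g v₀) hyx
    simp only [emul, hfix] at h
    exact h
  have hσ : ∀ (a : R), ((σ a : R) : AddMonoid.End V) v₀ = x ((a : AddMonoid.End V) v₀) := fun a => by
    show (x * (a : AddMonoid.End V) * y) v₀ = _
    rw [emul, emul, hyv]
  have hσpow : ∀ (n : ℕ) (a : R), (((σ ^ n : R ≃+* R) a : R) : AddMonoid.End V) v₀ =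
      ((X ^ n : (AddMonoid.End V)ˣ) : AddMonoid.End V) ((a : AddMonoid.End V) v₀) := by
    intro n
    induction n with
    | zero => intro a; simp
    | succ n ih =>
      intro a
      rw [pow_succ', pow_succ', Units.val_mul]
      show ((σ ((σ ^ n : R ≃+* R) a) : R) : AddMonoid.End V) v₀ = _
      rw [hσ, ih, emul]
  have hσr : σ ^ r = 1 := RingEquiv.ext fun a => hev.1 (by
    show (((σ ^ r : R ≃+* R) a : R) : AddMonoid.End V) v₀ = (a : AddMonoid.End V) v₀
    rw [hσpow, hXr, Units.val_one, eone])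
  have hσ1 : σ ≠ 1 := fun h => hX (Units.ext (AddMonoidHom.ext fun w => by
    obtain ⟨a, rfl⟩ := hev.2 w
    show x ((a : AddMonoid.End V) v₀) = _
    rw [← hσ, h]
    rfl))
  haveI := Fact.mk hr
  have hord : orderOf σ = r := orderOf_eq_prime hσr hσ1
  let Γ : Subgroup (R ≃+* R) := Subgroup.zpowers σ
  haveI : Finite (R ≃+* R) := Finite.of_injective (fun g : R ≃+* R => (g : R → R)) DFunLike.coe_injective
  letI : Fintype Γ := Fintype.ofFinite Γ
  have hrank : Module.finrank (FixedPoints.subfield Γ R) R = r := by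
    rw [FixedPoints.finrank_eq_card Γ R, ← Nat.card_eq_fintype_card, Nat.card_zpowers, hord]
  have hfixed : ∀ a : R, a ∈ FixedPoints.subfield Γ R ↔ σ a = a := by
    intro a
    refine ⟨fun h => h ⟨σ, Subgroup.mem_zpowers σ⟩, fun h g => ?_⟩
    obtain ⟨k, hk⟩ := g.2
    have hmem' : σ ∈ MulAction.stabilizer (R ≃+* R) a := h
    have := zpow_mem hmem' k
    show (g : R ≃+* R) a = a
    rw [← hk]
    exact this
  have hcfix : Nat.card (FixedPoints.subfield Γ R) = 2 := by
    rw [← hcard]
    refine Nat.card_congr (Equiv.ofBijective (fun a => ⟨((a : R) : AddMonoid.End V) v₀, ?_⟩) ⟨?_, ?_⟩)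
    · rw [← hσ, (hfixed a).1 a.2]
    · exact fun a b e => Subtype.ext (hev.1 (congrArg Subtype.val e))
    · rintro ⟨w, hw⟩
      obtain ⟨a, rfl⟩ := hev.2 w
      exact ⟨⟨a, (hfixed a).2 (hev.1 (by show ((σ a : R) : AddMonoid.End V) v₀ = _; rw [hσ]; exact hw))⟩, rfl⟩
  haveI : Finite (FixedPoints.subfield Γ R) := inferInstance
  rw [← Nat.card_congr (Equiv.ofBijective _ hev), Module.natCard_eq_pow_finrank (K := FixedPoints.subfield Γ R),
    hcfix, hrank]

end Linear

variable {G Ω : Type*} [Group G] [MulAction G Ω] [Fintype Ω]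

/-- the degree is a power of two with prime exponent -/
theorem degree [Finite G] [FaithfulSMul G Ω] (h2 : MulAction.IsMultiplyPretransitive G Ω 2)
    (h3 : ∀ g : G, ∀ a b c : Ω, a ≠ b → b ≠ c → a ≠ c → g • a = a → g • b = b → g • c = c → g = 1)
    (hfix : ∃ g : G, g ≠ 1 ∧ ∃ a b : Ω, a ≠ b ∧ g • a = a ∧ g • b = b)
    (N : Subgroup G) [hn : N.Normal] [IsPretransitive N Ω]
    (hNr : ∀ a : Ω, stabilizer N a = ⊥) : ∃ p : ℕ, p.Prime ∧ Fintype.card Ω = 2 ^ p := by
  classical
  obtain ⟨g₀, hg₀, a, b, hab, hga, hgb⟩ := hfix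
  -- an element of prime order fixing both points
  obtain ⟨r, hr, x, hxo, hxa, hxb⟩ : ∃ r : ℕ, r.Prime ∧ ∃ x : G, orderOf x = r ∧ x • a = a ∧ x • b = b := by
    obtain ⟨r, hr, hrd⟩ := Nat.exists_prime_and_dvd (fun h => hg₀ (orderOf_eq_one_iff.1 h))
    refine ⟨r, hr, g₀ ^ (orderOf g₀ / r), ?_, ?_, ?_⟩
    · rw [orderOf_pow_of_dvd (Nat.div_pos (Nat.le_of_dvd (orderOf_pos g₀) hrd) hr.pos).ne'
        (Nat.div_dvd_of_dvd hrd), Nat.div_div_self hrd (orderOf_pos g₀).ne']
    · exact pow_mem (show g₀ ∈ stabilizer G a from hga) _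
    · exact pow_mem (show g₀ ∈ stabilizer G b from hgb) _
  have hx1 : x ≠ 1 := fun h => hr.ne_one (by rw [← hxo, h, orderOf_one])
  have hfix2 : ∀ c : Ω, x • c = c → c = a ∨ c = b := fun c hc => by
    by_contra hne
    push Not at hne
    exact hx1 (h3 x a b c hab (Ne.symm hne.2) (Ne.symm hne.1) hxa hxb hc)
  have h3Ω : 3 ≤ Fintype.card Ω := by
    by_contra hlt
    refine hx1 (eq_of_smul_eq_smul (α := Ω) fun c => ?_)
    rw [one_smul]
    have hu : ({a, b} : Finset Ω) = Finset.univ := by
      refine Finset.eq_univ_of_card _ ?_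
      have h2' : ({a, b} : Finset Ω).card = 2 := Finset.card_pair hab
      have := Finset.card_le_univ ({a, b} : Finset Ω)
      omega
    have hc : c ∈ ({a, b} : Finset Ω) := hu ▸ Finset.mem_univ c
    rw [Finset.mem_insert, Finset.mem_singleton] at hc
    rcases hc with rfl | rfl
    exacts [hxa, hxb]
  -- coordinates on the normal subgroup
  have hinjN : ∀ u v : N, (u : G) • a = (v : G) • a → u = v := fun u v e => by
    have hmem : v⁻¹ * u ∈ stabilizer N a := by
      show ((v : G)⁻¹ * u) • a = a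
      rw [mul_smul, e, inv_smul_smul]
    rw [hNr, mem_bot] at hmem
    exact (inv_mul_eq_one.1 hmem).symm
  have hsurjN : ∀ c : Ω, ∃ u : N, (u : G) • a = c := fun c => exists_smul_eq N a c
  have hequiv : ∀ g : G, g • a = a → ∀ u : N, ((MulAut.conjNormal g u : N) : G) • a = g • (u : G) • a :=
    fun g hg u => by
      rw [MulAut.conjNormal_apply, mul_smul, mul_smul, show g⁻¹ • a = a from inv_smul_eq_iff.2 hg.symm]
  have hcardN : Nat.card N = Fintype.card Ω := by
    rw [← Nat.card_eq_fintype_card]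
    exact Nat.card_congr (Equiv.ofBijective _ ⟨fun u v => hinjN u v, hsurjN⟩)
  obtain ⟨m₀, hm₀⟩ := hsurjN b
  have hm₀1 : m₀ ≠ 1 := fun h => hab (by rw [← hm₀, h]; simp)
  -- conjugacy of the nontrivial elements
  have hconj : ∀ u v : N, u ≠ 1 → v ≠ 1 → ∃ g : G, g • a = a ∧ MulAut.conjNormal g u = v := by
    intro u v hu hv
    have hne : ∀ w : N, w ≠ 1 → a ≠ (w : G) • a := fun w hw e =>
      hw (hinjN w 1 (by rw [← e, Subgroup.coe_one, one_smul]))
    obtain ⟨g, hg1, hg2⟩ := is_two_pretransitive_iff.1 h2 (hne u hu) (hne v hv)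
    exact ⟨g, hg1, hinjN _ _ ((hequiv g hg1 u).trans hg2)⟩
  -- fixed elements of x
  have hxfix : ∀ u : N, MulAut.conjNormal x u = u → u = 1 ∨ u = m₀ := fun u hu => by
    have h := hequiv x hxa u
    rw [hu] at h
    rcases hfix2 _ h.symm with h' | h'
    · exact Or.inl (hinjN u 1 (by simp [h']))
    · exact Or.inr (hinjN u m₀ (h'.trans hm₀.symm))
  have hxm₀ : MulAut.conjNormal x m₀ = m₀ := hinjN _ _ (by rw [hequiv x hxa, hm₀, hxb])
  have hm₀2 : m₀ * m₀ = 1 := by
    rcases hxfix (m₀ * m₀) (by rw [map_mul, hxm₀]) with h | h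
    · exact h
    · exact absurd (mul_left_cancel (h.trans (mul_one m₀).symm)) hm₀1
  have hexp : ∀ u : N, u * u = 1 := fun u => by
    rcases eq_or_ne u 1 with rfl | hu
    · exact one_mul 1
    obtain ⟨g, -, hg⟩ := hconj m₀ u hm₀1 hu
    rw [← hg, ← map_mul, hm₀2, map_one]
  have hNc : ∀ u v : N, u * v = v * u := fun u v => by
    have := hexp (u * v)
    calc u * v = u * (u * v * (u * v)) * v := by rw [this, mul_one]
      _ = (u * u) * (v * u) * (v * v) := by group
      _ = v * u := by rw [hexp, hexp, one_mul, mul_one]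
  letI : CommGroup N := { (inferInstance : Group N) with mul_comm := hNc }
  haveI : IsMulCommutative N := ⟨⟨mul_comm⟩⟩
  -- the Frobenius kernel of the point stabiliser
  set M : Subgroup (stabilizer G a) := (stabilizer G a ⊓ stabilizer G b).subgroupOf (stabilizer G a) with hM
  have hfro : Cfsg.IsFrobeniusComplement M := by
    refine ⟨fun h => ?_, fun h => ?_, fun g hg => ?_⟩
    · have : (⟨x, hxa⟩ : stabilizer G a) ∈ M := ⟨hxa, hxb⟩
      rw [h, mem_bot] at this
      exact hx1 (congrArg Subtype.val this)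
    · obtain ⟨c, -, hc⟩ := Finset.exists_mem_notMem_of_card_lt_card
        (s := ({a, b} : Finset Ω)) (t := Finset.univ) (by
          rw [Finset.card_univ]; have := Finset.card_le_two (a := a) (b := b); omega)
      simp only [Finset.mem_insert, Finset.mem_singleton, not_or] at hc
      obtain ⟨g, hg1, hg2⟩ := is_two_pretransitive_iff.1 h2 hab (Ne.symm hc.1)
      have : (⟨g, hg1⟩ : stabilizer G a) ∈ M := h ▸ mem_top _
      exact hc.2 (hg2.symm.trans this.2)
    · rw [eq_bot_iff]
      rintro w ⟨hw, hw'⟩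
      obtain ⟨y, hy, rfl⟩ := hw'
      have hgb : g.1 • b ≠ b := fun h => hg (show g.1 ∈ stabilizer G a ⊓ stabilizer G b from ⟨g.2, h⟩)
      have hga' : g.1 • b ≠ a := fun h => hab (smul_left_cancel g.1 (g.2.trans h.symm))
      rw [mem_bot]
      refine Subtype.ext (h3 _ a b (g.1 • b) hab (Ne.symm hgb) (Ne.symm hga') hw.1 hw.2 ?_)
      show (g.1 * y.1 * g.1⁻¹) • (g.1 • b) = g.1 • b
      rw [← mul_smul, inv_mul_cancel_right, mul_smul]
      exact congrArg (g.1 • ·) (hy : y.1 ∈ stabilizer G a ⊓ stabilizer G b).2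
  obtain ⟨K, hK, hKn, -⟩ := Coprime.frob_kernel_subgroup hfro
  let H : Subgroup G := K.map (stabilizer G a).subtype
  have hHfree : ∀ u ∈ H, u ≠ 1 → ∀ c : Ω, u • c = c → c = a := by
    rintro _ ⟨⟨u, hua⟩, huK, rfl⟩ hu1 c hc
    by_contra hca
    obtain ⟨g, hg1, hg2⟩ := is_two_pretransitive_iff.1 h2 hab (Ne.symm hca)
    have hker : (⟨u, hua⟩ : stabilizer G a) ∈ Cfsg.frobeniusKernel M := hK ▸ huK
    rcases hker with h | h
    · exact hu1 (by rw [h]; rfl)
    · refine h ⟨g, hg1⟩ ⟨(⟨g, hg1⟩ : stabilizer G a)⁻¹ * ⟨u, hua⟩ * ⟨g, hg1⟩, ?_, ?_⟩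
      · show g⁻¹ * u * g ∈ stabilizer G a ⊓ stabilizer G b
        refine ⟨?_, ?_⟩
        · show (g⁻¹ * u * g) • a = a
          rw [mul_smul, mul_smul, hg1, hua, inv_smul_eq_iff, hg1]
        · show (g⁻¹ * u * g) • b = b
          rw [mul_smul, mul_smul, hg2, inv_smul_eq_iff, hg2]
          exact hc
      · show (⟨g, hg1⟩ : stabilizer G a) * _ * (⟨g, hg1⟩ : stabilizer G a)⁻¹ = _
        group
  have hHa : H ≤ stabilizer G a := map_subtype_le K
  have horbH : Nat.card H + 1 = Fintype.card Ω := by
    have h1 : Nat.card K = M.index := by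
      rw [← Coprime.frob_card_kernel hfro, ← hK]; rfl
    have hio : M.index = Fintype.card Ω - 1 := by
      have he : M = stabilizer (stabilizer G a) b := by
        ext w; exact ⟨fun h => h.2, fun h => ⟨w.2, h⟩⟩
      rw [he, index_stabilizer]
      have horb : orbit (stabilizer G a) b = {c | c ≠ a} := by
        ext c
        constructor
        · rintro ⟨g, rfl⟩ h
          have hga' : (g : G) • a = a := g.2
          exact hab (smul_left_cancel (g : G) (hga'.trans (h : (g : G) • b = a).symm))
        · intro hc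
          obtain ⟨g, hg1, hg2⟩ := is_two_pretransitive_iff.1 h2 hab (Ne.symm hc)
          exact ⟨⟨g, hg1⟩, hg2⟩
      rw [horb, ← Nat.card_coe_set_eq, Nat.card_eq_fintype_card]
      exact (Fintype.card_subtype_compl _).trans (by rw [Fintype.card_subtype_eq])
    rw [card_map_of_injective (stabilizer G a).subtype_injective, h1, hio]
    omega
  have hfpf : Coprime.IsFpfOn H N := by
    intro h hh hh1
    rw [eq_bot_iff]
    rintro u ⟨hu, huc⟩
    rw [mem_bot]
    have hc : (u : G) * h = h * u := Subgroup.mem_centralizer_singleton_iff.1 huc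
    have hh' := hHfree h hh hh1 (u • a) (by
      rw [← mul_smul, ← hc, mul_smul, show h • a = a from hHa hh])
    exact congrArg Subtype.val (hinjN ⟨u, hu⟩ 1 (by simpa using hh'))
  have hHN : H ≤ normalizer (N : Set G) := by rw [normalizer_eq_top]; exact le_top
  -- the kernel has odd order
  obtain ⟨k, hk⟩ : ∃ k, Nat.card N = 2 ^ k := by
    haveI : Fact (Nat.Prime 2) := ⟨Nat.prime_two⟩
    exact IsPGroup.iff_card.1 (show IsPGroup 2 N from fun u => ⟨1, by rw [pow_one, pow_two, hexp]⟩)
  have hNbot : N ≠ ⊥ := fun h => hm₀1 (Subtype.ext (by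
    have hm := m₀.2
    rw [Subgroup.coe_one]
    exact Subgroup.mem_bot.1 (h ▸ hm)))
  have hHodd : ¬ 2 ∣ Nat.card H := by
    rintro ⟨j, hj⟩
    rcases k with _ | k
    · rw [pow_zero, hcardN] at hk; omega
    · rw [pow_succ] at hk; omega
  -- nilpotent with cyclic Sylow subgroups
  have hxH : x ∈ normalizer (H : Set G) := by
    rw [mem_normalizer_iff]
    intro u
    constructor
    · rintro ⟨w, hw, rfl⟩
      exact ⟨_, hKn.conj_mem w hw ⟨x, hxa⟩, rfl⟩
    · rintro ⟨w, hw, e⟩
      refine ⟨_, hKn.conj_mem w hw ⟨x, hxa⟩⁻¹, ?_⟩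
      show x⁻¹ * (w : G) * x⁻¹⁻¹ = u
      rw [show (w : G) = x * u * x⁻¹ from e]
      group
  have hxHfix : ∀ u ∈ H, x * u = u * x → u = 1 := by
    intro u hu hc
    by_contra hu1
    have h : x • u • b = u • b := by rw [← mul_smul, hc, mul_smul, hxb]
    rcases hfix2 _ h with e | e
    · exact hab (smul_left_cancel u ((hHa hu).trans e.symm))
    · exact hab (hHfree u hu hu1 b e).symm
  haveI : Group.IsNilpotent H := by
    let φ : H ≃* H :=
      { toFun := fun u => ⟨x * u * x⁻¹, (mem_normalizer_iff.1 hxH u).1 u.2⟩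
        invFun := fun u => ⟨x⁻¹ * u * x, (mem_normalizer_iff''.1 hxH u).1 u.2⟩
        left_inv := fun u => Subtype.ext (by group)
        right_inv := fun u => Subtype.ext (by group)
        map_mul' := fun u v => Subtype.ext (by push_cast; group) }
    have hiter : ∀ (j : ℕ) (u : H), ((φ^[j] u : H) : G) = x ^ j * u * (x ^ j)⁻¹ := by
      intro j
      induction j with
      | zero => simp
      | succ j ih =>
        intro u
        rw [Function.iterate_succ_apply']
        show x * ((φ^[j] u : H) : G) * x⁻¹ = _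
        rw [ih, pow_succ']
        group
    refine CfsgLib.PGroup.isNilpotent_of_fixedPointFree hr H φ (fun u hu => ?_)
      fun u => Subtype.ext (by rw [hiter, ← hxo, pow_orderOf_eq_one]; simp)
    have h1 : x * (u : G) * x⁻¹ = u := congrArg Subtype.val hu
    exact Subtype.ext (hxHfix u u.2 (mul_inv_eq_iff_eq_mul.1 h1))
  haveI : IsZGroup H := ⟨fun q hq Q => by
    haveI := Fact.mk hq
    rcases Coprime.IsFpfOn.sylow_cyclic_or_quaternion hHN hfpf hNbot Q with h | ⟨rfl, n, ⟨e⟩⟩
    · exact h
    · exfalso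
      have h2 : 2 ∣ Nat.card (Q : Subgroup H) := by
        rw [Nat.card_congr e.toEquiv, Nat.card_eq_fintype_card, QuaternionGroup.card]
        exact ⟨2 * 2 ^ n, by ring⟩
      exact hHodd (h2.trans (card_subgroup_dvd_card _))⟩
  haveI : IsCyclic H := inferInstance
  have hHcomm : ∀ u ∈ H, ∀ v ∈ H, u * v = v * u := fun u hu v hv =>
    congrArg Subtype.val ((IsCyclic.isMulCommutative (α := H)).is_comm.comm (⟨u, hu⟩ : H) ⟨v, hv⟩)
  -- operators on the additive group
  let actf : G → AddMonoid.End (Additive N) := fun g =>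
    { toFun := fun v => Additive.ofMul (MulAut.conjNormal g v.toMul)
      map_zero' := congrArg Additive.ofMul (map_one (MulAut.conjNormal g))
      map_add' := fun v w => congrArg Additive.ofMul (map_mul (MulAut.conjNormal g) v.toMul w.toMul) }
  let act : G →* AddMonoid.End (Additive N) :=
    { toFun := actf
      map_one' := AddMonoidHom.ext fun v => by
        show Additive.ofMul (MulAut.conjNormal (1 : G) v.toMul) = v
        rw [map_one]; rfl
      map_mul' := fun g g' => AddMonoidHom.ext fun v => by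
        show Additive.ofMul (MulAut.conjNormal (g * g') v.toMul) =
          Additive.ofMul (MulAut.conjNormal g (MulAut.conjNormal g' v.toMul))
        rw [map_mul]; rfl }
  have hb_orbit : ∀ c : Ω, c ≠ a → ∃ u ∈ H, u • b = c := by
    have hne : ∀ u : H, (u : G) • b ≠ a := fun u e => hab (by
      have h' : (u : G) • a = a := hHa u.2
      exact (smul_left_cancel _ (e.trans h'.symm)).symm)
    have hb : Function.Bijective (fun u : H => (⟨(u : G) • b, hne u⟩ : {c : Ω // c ≠ a})) := by
      refine (Nat.bijective_iff_injective_and_card _).2 ⟨fun u v e => ?_, ?_⟩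
      · by_contra huv
        refine hab (hHfree (v⁻¹ * u : H) (v⁻¹ * u : H).2 (fun h => huv ?_) b ?_).symm
        · exact Subtype.ext (inv_mul_eq_one.1 h).symm
        · show ((v : G)⁻¹ * u) • b = b
          rw [mul_smul, show (u : G) • b = (v : G) • b from congrArg Subtype.val e, inv_smul_smul]
      · rw [Nat.card_eq_fintype_card (α := {c : Ω // c ≠ a}), Fintype.card_subtype_compl, Fintype.card_subtype_eq]
        omega
    intro c hc
    obtain ⟨u, hu⟩ := hb.2 ⟨c, hc⟩
    exact ⟨u, u.2, congrArg Subtype.val hu⟩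
  have hV := exists_prime_pow (V := Additive N) (S := act '' (H : Set G))
    (by
      rintro _ ⟨u, hu, rfl⟩ _ ⟨v, hv, rfl⟩
      rw [← map_mul, ← map_mul, hHcomm u hu v hv])
    (by
      rintro _ ⟨u, -, rfl⟩
      exact fun v w e => Additive.toMul.injective ((MulAut.conjNormal u).injective
        (congrArg Additive.toMul e)))
    (Additive.ofMul m₀) (fun h => hm₀1 h)
    (fun w hw => by
      have hw' : ((w.toMul : N) : G) • a ≠ a := fun e => hw
        (Additive.toMul.injective (hinjN w.toMul 1 (by rw [e]; simp)))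
      obtain ⟨u, hu, hu'⟩ := hb_orbit _ hw'
      refine ⟨act u, ⟨u, hu, rfl⟩, ?_⟩
      exact congrArg Additive.ofMul (hinjN (MulAut.conjNormal u m₀) w.toMul
        (by rw [hequiv u (hHa hu), hm₀, hu'])))
    (X := (Units.map act) (toUnits x))
    (by
      rintro _ ⟨u, hu, rfl⟩
      refine ⟨x * u * x⁻¹, (mem_normalizer_iff.1 hxH u).1 hu, ?_⟩
      rw [map_mul, map_mul]; rfl)
    hr (by rw [← map_pow, ← map_pow, ← hxo, pow_orderOf_eq_one, map_one, map_one])
    (fun h => by
      have h' : ∀ u : N, MulAut.conjNormal x u = u := fun u =>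
        congrArg (fun f : AddMonoid.End (Additive N) => (f (Additive.ofMul u)).toMul)
          (congrArg Units.val h)
      obtain ⟨c, -, hc⟩ := Finset.exists_mem_notMem_of_card_lt_card
        (s := ({a, b} : Finset Ω)) (t := Finset.univ) (by
          rw [Finset.card_univ]; have := Finset.card_le_two (a := a) (b := b); omega)
      simp only [Finset.mem_insert, Finset.mem_singleton, not_or] at hc
      obtain ⟨u, hu⟩ := hsurjN c
      rcases hxfix u (h' u) with rfl | rfl
      · exact hc.1 (by rw [← hu]; simp)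
      · exact hc.2 (hu.symm.trans hm₀))
    (congrArg Additive.ofMul hxm₀)
    (by
      rw [Nat.card_eq_two_iff]
      refine ⟨⟨0, map_zero _⟩, ⟨Additive.ofMul m₀, congrArg Additive.ofMul hxm₀⟩,
        fun h => hm₀1 (congrArg (fun w => w.1.toMul) h).symm, ?_⟩
      refine Set.eq_univ_of_forall fun ⟨w, hw⟩ => ?_
      rcases hxfix w.toMul (congrArg Additive.toMul hw) with h | h
      · exact Or.inl (Subtype.ext (congrArg Additive.ofMul h))
      · exact Or.inr (Subtype.ext (congrArg Additive.ofMul h)))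
  refine ⟨r, hr, ?_⟩
  rw [← hcardN]
  exact hV

end CfsgLib.Lie.RegularDegree
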